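import Cfsg.Agent.H567.FC.Fld
import Cfsg.Agent.H826.FC.BS00
import Cfsg.Agent.TwoFusion.GUTwo

/-!
# S5764, B-C6U34: finite fields with an involution (helper801)
-/

set_option autoImplicit false
set_option linter.unusedSectionVars false

namespace Cfsg.Agent.H801.FC

section

variable {K : Type*} [Field K] [Finite K] {τ : K ≃+* K}

theorem exists_q (hτ : ∀ a, τ (τ a) = a) (hne : ∃ a, τ a ≠ a) :
    ∃ q : ℕ, Nat.card K = q ^ 2 ∧ ∀ x, τ x = x ^ q :=
  H826.FC.exists_card_sq (σ := (τ : K →+* K)) (by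
    intro h
    obtain ⟨a, ha⟩ := hne
    exact ha (RingHom.congr_fun h a)) hτ

/-- the norm is surjective -/
theorem exists_nm (hτ : ∀ a, τ (τ a) = a) (hne : ∃ a, τ a ≠ a) {c : K} (hc : τ c = c) (hc0 : c ≠ 0) :
    ∃ a : K, a ≠ 0 ∧ a * τ a = c := by
  obtain ⟨q, hq, hτq⟩ := exists_q hτ hne
  have := Fintype.ofFinite K
  have hF : Fintype.card K = q ^ 2 := by rw [← Nat.card_eq_fintype_card, hq]
  obtain ⟨a, ha⟩ := TwoFusion.GUTwo.exists_norm_eq hF hc0 (by rw [← hτq, hc])
  have h1 : a * τ a = c := by rw [hτq, ← ha, pow_succ, mul_comm]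
  exact ⟨a, fun h => hc0 (by rw [← h1, h, zero_mul]), h1⟩

/-- elements fixed by `τ` are squares -/
theorem exists_sq (hτ : ∀ a, τ (τ a) = a) (hne : ∃ a, τ a ≠ a) (h2 : (2 : K) ≠ 0) {c : K} (hc : τ c = c) :
    ∃ a : K, a * a = c := by
  rcases eq_or_ne c 0 with rfl | hc0
  · exact ⟨0, mul_zero 0⟩
  obtain ⟨q, hq, hτq⟩ := exists_q hτ hne
  have := Fintype.ofFinite K
  have hF : Fintype.card K = q ^ 2 := by rw [← Nat.card_eq_fintype_card, hq]
  obtain ⟨a, ha⟩ := TwoFusion.GUTwo.exists_norm_eq hF hc0 (by rw [← hτq, hc])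
  have hodd : Odd q := by
    have h1 : ringChar K ≠ 2 := by
      intro h
      apply h2
      have h3 := ringChar.Nat.cast_ringChar (R := K)
      rw [h] at h3
      exact_mod_cast h3
    have h3 := FiniteField.odd_card_of_char_ne_two h1
    rw [hF] at h3
    have h4 : Odd (q ^ 2) := Nat.odd_iff.2 h3
    exact (Nat.odd_pow_iff (by norm_num)).1 h4
  obtain ⟨m, hm⟩ := hodd
  refine ⟨a ^ (m + 1), ?_⟩
  rw [← pow_add, ← ha, hm]
  congr 1
  ring

theorem eq_id_of {σ : K ≃+* K} (hτ : ∀ a, τ (τ a) = a) (h : ∀ c, τ c = c → σ c = c) {w : K} (hw : τ w ≠ w)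
    (hσ : σ w = w) (a : K) : σ a = a := by
  have hw0 : w - τ w ≠ 0 := sub_ne_zero.2 (Ne.symm hw)
  have hw0' : τ w - w ≠ 0 := sub_ne_zero.2 hw
  obtain ⟨t, ht⟩ : ∃ t, t = (a - τ a) / (w - τ w) := ⟨_, rfl⟩
  have h1 : t * (w - τ w) = a - τ a := by rw [ht]; field_simp
  have h2 : τ t = t := by
    rw [ht, map_div₀, map_sub, map_sub, hτ, hτ]
    rw [div_eq_div_iff hw0' hw0]
    ring
  have h3 : τ (a - t * w) = a - t * w := by
    rw [map_sub, map_mul, h2]
    linear_combination h1
  have h4 : a = (a - t * w) + t * w := by ring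
  have h5 := h _ h3
  have h6 := h _ h2
  calc σ a = σ ((a - t * w) + t * w) := by rw [← h4]
    _ = (a - t * w) + t * w := by rw [map_add, map_mul, h5, h6, hσ]
    _ = a := h4.symm

theorem fix_of_gen {σ : K ≃+* K} {k : K} (hk : ∀ c, τ c = c → c ≠ 0 → ∃ n : ℕ, c = k ^ n) (h : σ k = k) (c : K)
    (hc : τ c = c) : σ c = c := by
  rcases eq_or_ne c 0 with rfl | hc0
  · exact map_zero σ
  obtain ⟨n, rfl⟩ := hk c hc hc0
  rw [map_pow, h]

/-- the element `κ` -/
theorem exists_kappa (hτ : ∀ a, τ (τ a) = a) (hne : ∃ a, τ a ≠ a) (h2 : (2 : K) ≠ 0) :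
    ∃ κ : K, κ ≠ 0 ∧ τ κ = - κ ∧ ∀ σ : K ≃+* K, σ κ = κ → ∀ a, σ a = a := by
  obtain ⟨k, hk, hk0, hgen⟩ := H826.FC.exists_gen τ
  obtain ⟨κ, hκ⟩ := exists_sq hτ hne h2 hk
  have hκ0 : κ ≠ 0 := by
    rintro rfl
    rw [mul_zero] at hκ
    exact hk0 hκ.symm
  have h1 : τ κ * τ κ = κ * κ := by rw [← map_mul, hκ, hk]
  have hne1 : τ κ ≠ κ := by
    intro h
    obtain ⟨n, hn⟩ := hgen κ h hκ0
    obtain ⟨m, hm⟩ := hgen (-1) (by rw [map_neg, map_one]) (neg_ne_zero.2 one_ne_zero)
    -- `k ^ (2n) = k`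
    have h3 : k ^ (2 * n) = k := by rw [two_mul, pow_add, ← hn, hκ]
    have h4 : ∀ j : ℕ, (k ^ j) ^ (2 * n) = k ^ j := by
      intro j
      rw [← pow_mul, mul_comm, pow_mul, h3]
    have h5 := h4 m
    rw [← hm, pow_mul, neg_one_sq, one_pow] at h5
    apply h2
    linear_combination h5
  have h6 : τ κ = - κ := (mul_self_eq_mul_self_iff.1 h1).resolve_left hne1
  refine ⟨κ, hκ0, h6, fun σ hσ a => ?_⟩
  refine eq_id_of hτ (fix_of_gen hgen ?_) hne1 hσ a
  rw [← hκ, map_mul, hσ]

/-- the element `λ` -/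
theorem exists_lam (hτ : ∀ a, τ (τ a) = a) (hne : ∃ a, τ a ≠ a) :
    ∃ l : K, l ≠ 0 ∧ ∀ σ : K ≃+* K, ∀ s, τ s = s → σ l = s * l → ∀ a, σ a = a := by
  obtain ⟨u, hu⟩ := IsCyclic.exists_generator (α := Kˣ)
  refine ⟨u, u.ne_zero, fun σ s hs hsl => ?_⟩
  have key : ∀ a : K, ∃ s, τ s = s ∧ σ a = s * a := by
    intro a
    rcases eq_or_ne a 0 with rfl | ha
    · exact ⟨1, map_one τ, by rw [map_zero, mul_zero]⟩
    obtain ⟨k, hk⟩ := hu (Units.mk0 a ha)
    have h1 : a = (u : K) ^ k := by
      have h2 := congrArg (Units.val) hk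
      simpa using h2.symm
    refine ⟨s ^ k, by rw [map_zpow₀, hs], ?_⟩
    rw [h1, map_zpow₀, hsl, mul_zpow]
  have h1 : ∀ t, τ t ≠ t → σ t = t := by
    intro t ht
    obtain ⟨s, hs, h2⟩ := key t
    obtain ⟨s', hs', h3⟩ := key (1 + t)
    rw [map_add, map_one, h2] at h3
    have h4 : (s - s') * t = s' - 1 := by linear_combination h3
    have h5 : (s - s') * τ t = s' - 1 := by
      have h6 := congrArg τ h4
      rw [map_mul, map_sub, map_sub, map_one, hs, hs'] at h6
      exact h6
    have h6 : (s - s') * (τ t - t) = 0 := by linear_combination h5 - h4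
    have h7 : s - s' = 0 := (mul_eq_zero.1 h6).resolve_right (sub_ne_zero.2 ht)
    have h8 : s = 1 := by
      have h9 : s' - 1 = 0 := by rw [← h4, h7, zero_mul]
      linear_combination h7 + h9
    rw [h2, h8, one_mul]
  obtain ⟨t, ht⟩ := hne
  refine fun a => eq_id_of hτ (fun c hc => ?_) ht (h1 t ht) a
  have h2 : τ (t + c) ≠ t + c := by
    rw [map_add, hc]
    exact fun h => ht (add_right_cancel h)
  have h3 := h1 _ h2
  rw [map_add, h1 t ht] at h3
  exact add_left_cancel h3

/-- the element `ρ` -/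
theorem exists_rho (hτ : ∀ a, τ (τ a) = a) {w : K} (hw1 : w ≠ 1) (hw3 : w ^ 3 = 1) (hw : w * τ w = 1)
    (hcard : Nat.card K ≠ 4) :
    ∃ ρ : K, ρ ≠ 0 ∧ τ ρ = ρ ∧ 1 + ρ * ρ ≠ 0 ∧ ∀ σ : K ≃+* K, σ ρ = ρ → σ w = w → ∀ a, σ a = a := by
  have hw2 : 1 + w + w ^ 2 = 0 := by
    have h1 : (w - 1) * (1 + w + w ^ 2) = 0 := by linear_combination hw3
    exact (mul_eq_zero.1 h1).resolve_left (sub_ne_zero.2 hw1)
  have h3 : (3 : K) ≠ 0 := by
    intro h
    have h1 : (w - 1) ^ 2 = 0 := by linear_combination hw2 - w * h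
    exact hw1 (sub_eq_zero.1 (pow_eq_zero_iff (two_ne_zero) |>.1 h1))
  have hw0 : w ≠ 0 := by
    rintro rfl
    rw [zero_mul] at hw
    exact zero_ne_one hw
  have hτw : τ w = w ^ 2 := by
    apply mul_left_cancel₀ hw0
    rw [hw]
    linear_combination - hw3
  have hne : τ w ≠ w := by
    intro h
    rw [hτw] at h
    have h1 : w * (w - 1) = 0 := by linear_combination h
    exact hw1 (sub_eq_zero.1 ((mul_eq_zero.1 h1).resolve_left hw0))
  obtain ⟨k, hk, hk0, hgen⟩ := H826.FC.exists_gen τ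
  by_cases h : 1 + k * k = 0
  · -- `F_q^* = {1, k, -1, -k}`
    have hk4 : ∀ n : ℕ, k ^ n = 1 ∨ k ^ n = -1 ∨ k ^ n = k ∨ k ^ n = -k := by
      intro n
      induction n with
      | zero => left; rw [pow_zero]
      | succ n ih =>
        rw [pow_succ]
        rcases ih with ih | ih | ih | ih
        · right; right; left; rw [ih, one_mul]
        · right; right; right; rw [ih, neg_one_mul]
        · right; left; rw [ih]; linear_combination h
        · left; rw [ih]; linear_combination - h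
    by_cases h2 : (2 : K) = 0
    · -- `|K| = 4`
      exfalso
      have hn1 : (-1 : K) = 1 := by linear_combination - h2
      have hk1 : k = 1 := by
        have h4 : (k - 1) * (k - 1) = 0 := by linear_combination h - k * h2
        exact sub_eq_zero.1 (mul_self_eq_zero.1 h4)
      apply hcard
      have hF : ∀ c, τ c = c → c = 0 ∨ c = 1 := by
        intro c hc
        rcases eq_or_ne c 0 with h0 | h0
        · exact Or.inl h0
        obtain ⟨n, hn⟩ := hgen c hc h0
        rw [hk1, one_pow] at hn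
        exact Or.inr hn
      -- all elements are `s + t w`
      have hw0' : w - τ w ≠ 0 := sub_ne_zero.2 (Ne.symm hne)
      have hall : ∀ a : K, a = 0 ∨ a = 1 ∨ a = w ∨ a = 1 + w := by
        intro a
        obtain ⟨t, ht⟩ : ∃ t, t = (a - τ a) / (w - τ w) := ⟨_, rfl⟩
        have h1 : t * (w - τ w) = a - τ a := by rw [ht]; field_simp
        have h5 : τ t = t := by
          rw [ht, map_div₀, map_sub, map_sub, hτ, hτ]
          rw [div_eq_div_iff (sub_ne_zero.2 hne) hw0']
          ring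
        have h6 : τ (a - t * w) = a - t * w := by
          rw [map_sub, map_mul, h5]
          linear_combination h1
        rcases hF t h5 with h7 | h7 <;> rcases hF _ h6 with h8 | h8 <;> rw [h7] at h8
        · left; linear_combination h8
        · right; left; linear_combination h8
        · right; right; left; linear_combination h8
        · right; right; right; linear_combination h8
      have hn01 : (1 : K) ≠ 0 := one_ne_zero
      have h1w : 1 + w ≠ 0 := by
        intro h4
        apply hw0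
        have h5 : w ^ 2 = 0 := by linear_combination hw2 - h4
        exact pow_eq_zero_iff (two_ne_zero) |>.1 h5
      classical
      have := Fintype.ofFinite K
      rw [Nat.card_eq_fintype_card, ← Finset.card_univ]
      have hu : (Finset.univ : Finset K) = {0, 1, w, 1 + w} := by
        ext a
        simp only [Finset.mem_univ, Finset.mem_insert, Finset.mem_singleton, true_iff]
        exact hall a
      rw [hu]
      rw [Finset.card_insert_of_notMem, Finset.card_insert_of_notMem, Finset.card_insert_of_notMem,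
        Finset.card_singleton]
      · rw [Finset.mem_singleton]
        intro h4
        exact hn01 (by linear_combination - h4)
      · rw [Finset.mem_insert, Finset.mem_singleton]
        rintro (h4 | h4)
        · exact hw1 h4.symm
        · exact hw0 (by linear_combination - h4)
      · rw [Finset.mem_insert, Finset.mem_insert, Finset.mem_singleton]
        rintro (h4 | h4 | h4)
        · exact hn01 h4.symm
        · exact hw0 h4.symm
        · exact h1w h4.symm
    · -- `2 = ± k`
      refine ⟨1, one_ne_zero, map_one τ, by rw [mul_one, one_add_one_eq_two]; exact h2, fun σ _ hσw => ?_⟩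
      have h2k : (2 : K) = k ∨ (2 : K) = -k := by
        obtain ⟨n, hn⟩ := hgen 2 (map_ofNat τ 2) h2
        rcases hk4 n with h4 | h4 | h4 | h4
        · exfalso
          exact one_ne_zero (α := K) (by linear_combination hn.trans h4)
        · exfalso
          exact h3 (by linear_combination hn.trans h4)
        · left; exact hn.trans h4
        · right; exact hn.trans h4
      have hσk : σ k = k := by
        rcases h2k with h4 | h4
        · rw [← h4, map_ofNat]
        · have h5 : k = -2 := by linear_combination h4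
          rw [h5, map_neg, map_ofNat]
      exact eq_id_of hτ (fix_of_gen hgen hσk) hne hσw
  · exact ⟨k, hk0, hk, h, fun σ hσ hσw => eq_id_of hτ (fix_of_gen hgen hσ) hne hσw⟩

/-- `σ² = 1` and `σ w = w`, `τ w ≠ w` imply `σ = 1` -/
theorem eq_id_of_sq {σ : K ≃+* K} (hτ : ∀ a, τ (τ a) = a) {w : K} (hw : τ w ≠ w) (hσw : σ w = w)
    (h : ∀ a, σ (σ a) = a) (a : K) : σ a = a := by
  by_contra ha
  have h1 := H567.FC.invol_unique h hτ ⟨a, ha⟩ ⟨w, hw⟩
  apply hw
  rw [← h1, hσw]

end

end Cfsg.Agent.H801.FC
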